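import Cfsg.Agent.Lib.SY6.SE

/-! The conjugates of `A` under `N(Q)` in the case `³D₄(q)` (SY6 KD). -/

set_option autoImplicit false
set_option linter.unusedSectionVars false
set_option linter.unusedSimpArgs false
set_option linter.unnecessarySeqFocus false

namespace H75.SY

open H89.D4S H89.D4S.U12 H78.Ofs H78.Sy Subgroup
open H93.SX (Cj nr mem_nr nr_cj nr_cj')
open H69
open scoped commutatorElement

variable {F E G : Type*} [Field F] [Field E] [Cub F E] [CharP F 2] [CharP E 2] [Finite F] [Finite E]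
  [Group G] [Finite G] {φ : U12 E →* G}

/-- the conjugates of the elements of `A` under the normaliser of `Q` -/
def LL (φ : U12 E →* G) (x : U12 E) : Prop := ∃ n ∈ nr φ (Q E), ∃ a ∈ EA E, Cj φ n a x

theorem LL.of_A {a : U12 E} (h : a ∈ EA E) : LL φ a := ⟨1, one_mem _, a, h, Cj.one⟩

theorem LL.cj {x y : U12 E} {n : G} (h : LL φ x) (hn : n ∈ nr φ (Q E)) (e : Cj φ n x y) : LL φ y :=
  let ⟨m, hm, a, ha, e'⟩ := h; ⟨n * m, mul_mem hn hm, a, ha, e.trans e'⟩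

theorem LL.conj {x : U12 E} (h : LL φ x) (t : U12 E) : LL φ (t * x * t⁻¹) := h.cj (S_nr _ t) (Cj.self t x)

theorem LL.p0 (inj : Function.Injective φ) {x : U12 E} (h : LL φ x) : x.p0 = 0 :=
  let ⟨_, hm, _, ha, e⟩ := h; e.mem inj hm ha.1

theorem LL.sq (inj : Function.Injective φ) {x : U12 E} (h : LL φ x) :
    x.p5 * x.p1 + T (x.p4 * x.p2) = 0 := by
  obtain ⟨m, hm, a, ha, e⟩ := id h
  have : x * x = 1 := (e.mul e).uniq inj (by rw [sq_B (x := a) ⟨ha.1, ha.2.1, ha.2.2.1⟩]; exact cj_one m)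
  rw [sq_Q (h.p0 inj)] at this
  exact congrArg U12.p3 this

theorem eqns_kd : True := by
  have := @LL.eq_1.{0, 0, 0}
  trivial

variable (hd : CD (F := F) E) (inj : Function.Injective φ) (hS : IsSylowIn 2 φ.range ⊤)
include hd inj hS

theorem kd1 {x : U12 E} (h : LL φ x) (h5 : x.p5 = 0) (h4 : x.p4 = 0) : x ∈ EA E := by
  obtain ⟨c, c0, e⟩ := exists_T0 hd x.p2
  obtain ⟨g, hg, a, ha, e1⟩ := id h
  refine u1 inj hS hg ha e1 (t := g0 c) c0 ?_
  rw [← commutatorElement_inv, cB ⟨h.p0 inj, h5, h4⟩ rfl]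
  refine inv_mem ⟨?_, ?_, ?_, ?_, ?_⟩ <;> simp [g0, g1, g3, mul_comm c, e]

theorem kd2 {x a : U12 E} (h : LL φ x) (h5 : x.p5 = 0) (ha : a ∈ EA E) : LL φ (x * a) := by
  by_cases h4 : x.p4 = 0
  · exact .of_A (mul_mem (kd1 hd inj hS h h5 h4) ha)
  obtain ⟨c, hc⟩ := exists_sq (a.p1 / N x.p4)
  have h0 := h.p0 inj
  have s := h.sq inj
  rw [h5, zero_mul, zero_add] at s
  have n0 : N x.p4 ≠ 0 := fun e => h4 (N_eq_zero.1 e)
  obtain ⟨b0, b5, b4, b2, b1⟩ := UA.cj h0 (g0 (ι c * x.p4))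
  have hy := h.conj (g0 (ι c * x.p4))
  generalize g0 (ι c * x.p4) * x * (g0 (ι c * x.p4))⁻¹ = y at *
  have e1 : T (sh x.p4 * x.p4) = N x.p4 := by rw [mul_comm, T_mul_sh]
  have e2 : cr x.p4 x.p4 = 0 := by cub
  simp only [g0, h5, map_zero, zero_mul, add_zero, ι_cr, e2, mul_zero, mul_assoc, T_ι_mul, s, sh_mul, sh_ι,
    e1, hc, div_mul_cancel₀ _ n0] at b5 b4 b2 b1
  obtain ⟨v, -, e⟩ := exists_conj_mul b0 (fun k => h4 (b4 ▸ k.2.2.1)) ((x * a).p3 + y.p3)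
  have := hy.conj v
  rw [e] at this
  convert this using 1
  ext <;> simp [g3, b0, b5, b4, b2, b1, h0, h5, ha.1, ha.2.1, ha.2.2.1, ha.2.2.2, CharTwo.add_cancel_left,
    add_comm y.p3, CharTwo.add_cancel_right]

theorem kd {g : G} (hg : g ∈ nr φ (Q E)) {u v : U12 E} (hu : u ∈ EA E) (e : Cj φ g u v) (h5 : v.p5 = 0) :
    v ∈ EA E := by
  have h : LL φ v := ⟨g, hg, u, hu, e⟩
  refine kd1 hd inj hS h h5 (by_contra fun h4 => ?_)
  obtain ⟨k, hk⟩ := exists_cr_ne hd h4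
  have h0 := h.p0 inj
  obtain ⟨b0, b5, b4, b2, -⟩ := UA.cj h0 (g0 k)
  have hy := h.conj (g0 k)
  generalize g0 k * v * (g0 k)⁻¹ = y at *
  simp only [g0, h5, map_zero, zero_mul, add_zero] at b5 b4 b2
  have c : y * v = v * y := by
    rw [comm_Q b0 h0, show Bf y v = 0 by
      simp only [Bf, b5, b4, b2, h5, zero_mul, mul_zero, zero_add]; cubK E]
    exact mul_one _
  obtain ⟨x, -, e1⟩ := nr_cj' hg (show y ∈ Q E from b0)
  have x5 := ((comm_A hu).1 (cj_comm inj e.symm e1.symm c.symm)).resolve_left fun u1 =>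
    h4 (e.mem inj (QZ inj hg) ⟨hu.1, hu.2.1, hu.2.2.1, hu.2.2.2, u1⟩).2.2.1
  have := (kd1 hd inj hS ((kd2 hd inj hS (hy.cj (inv_mem hg) e1.symm) x5 hu).cj hg (e1.mul e))
    (by simp [b5, h5]) (by simp [b4, h5, CharTwo.add_self_eq_zero])).2.2.2
  simp only [mul_p2, b0, b2, h5, zero_cr, map_zero, zero_mul, add_zero] at this
  exact hk (by rw [← this]; cub)

end H75.SY
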