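import Cfsg.Agent.Lib.Sy.AY
import Cfsg.Agent.Lib.G2S.Gen

/-! `N(Q) ⊓ N(A)` is strongly embedded in `N(Q)` modulo `Q C(Q)` (SY6 SE). -/

set_option autoImplicit false
set_option linter.unusedSectionVars false
set_option linter.unusedSimpArgs false
set_option linter.unnecessarySeqFocus false

namespace H75.SY

open H89.D4S H89.D4S.U12 H78.Ofs H78.Sy Subgroup
open H93.SX (Cj nr mem_nr nr_cj nr_cj')
open H69
open scoped commutatorElement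

variable {F E G : Type*} [Field F] [Field E] [Cub F E] [CharP F 2] [CharP E 2] [Finite F] [Finite E]
  [Group G] [Finite G] {φ : U12 E →* G}

theorem into_S {L : Subgroup G} (hS : IsSylowIn 2 φ.range L) {x : G} (hx : x ∈ L) {k : ℕ}
    (h : x ^ 2 ^ k = 1) : ∃ l ∈ L, ∃ s, l * x * l⁻¹ = φ s := by
  obtain ⟨l, hl, e⟩ := hS.exists_cj_le (H89.G2S.Gen.isP_pow h) (zpowers_le.2 hx)
  obtain ⟨s, hs⟩ := e (cj_mem l (mem_zpowers _))
  exact ⟨l, hl, s, hs.symm⟩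

theorem S_nr (X : Subgroup (U12 E)) [n : X.Normal] (t : U12 E) : φ t ∈ nr φ X :=
  mem_nr fun x hx => ⟨_, n.conj_mem x hx t, Cj.self t x⟩

theorem S_le (X : Subgroup (U12 E)) [X.Normal] : φ.range ≤ nr φ X := by
  rintro _ ⟨t, rfl⟩; exact S_nr X t

theorem cj_comm (inj : Function.Injective φ) {g : G} {x y x' y' : U12 E} (a : Cj φ g x y) (b : Cj φ g x' y')
    (e : x * x' = x' * x) : y * y' = y' * y := (a.mul b).uniq inj (e ▸ b.mul a)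

theorem cj_one (g : G) : Cj φ g 1 1 := by simp [Cj]

theorem Z_cent {x : U12 E} (hx : x ∈ Z E) (y : U12 E) : x * y = y * x := by
  obtain ⟨c, rfl⟩ := mem_Z'.1 hx
  exact g3_comm c y

theorem Z_le_A : Z E ≤ EA E := fun _ h => ⟨h.1, h.2.1, h.2.2.1, h.2.2.2.1⟩

theorem QZ (inj : Function.Injective φ) {g : G} (hg : g ∈ nr φ (Q E)) : g ∈ nr φ (Z E) :=
  mem_nr fun x hx => by
    obtain ⟨y, -, e⟩ := nr_cj hg (show x ∈ Q E from hx.1)
    refine ⟨y, UA.zQ fun v hv => ?_, e⟩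
    obtain ⟨w, -, e'⟩ := nr_cj' hg (show v ∈ Q E from hv)
    exact cj_comm inj e e' (Z_cent hx w)

theorem comm_A {a w : U12 E} (ha : a ∈ EA E) : a * w = w * a ↔ a.p1 = 0 ∨ w.p5 = 0 := by
  rw [← commutatorElement_eq_one_iff_mul_comm, UA.c4 ha, ← mul_eq_zero]
  exact ⟨fun e => congrArg U12.p3 e, fun e => by rw [e]; rfl⟩

theorem A_of_comm {y : U12 E} (h0 : y.p0 = 0) (h : ∀ w : U12 E, w.p0 = 0 → w.p5 = 0 → y * w = w * y) :
    y ∈ EA E := by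
  have k : ∀ x : E, (∀ c, T (x * c) = 0) → x = 0 := fun x hx => by_contra fun e => by
    obtain ⟨c, hc⟩ := exists_T e 1
    exact one_ne_zero (hc.symm.trans (hx c))
  refine ⟨h0, ?_, k _ fun c => ?_, k _ fun c => ?_⟩
  · simpa [Bf, g1] using UA.bf0 h0 rfl (h (g1 1) rfl rfl)
  · simpa [Bf, g2] using UA.bf0 h0 rfl (h (g2 c) rfl rfl)
  · simpa [Bf, g4] using UA.bf0 h0 rfl (h (g4 c) rfl rfl)

theorem nrA_of (inj : Function.Injective φ) {n : G} (hn : n ∈ nr φ (Q E)) {a b : U12 E} (ha : a ∈ EA E)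
    (a1 : a.p1 ≠ 0) (hb : b ∈ EA E) (e : Cj φ n a b) : n ∈ nr φ (EA E) :=
  mem_nr fun x hx => by
    obtain ⟨y, hy, e1⟩ := nr_cj hn (show x ∈ Q E from hx.1)
    refine ⟨y, A_of_comm hy fun w w0 w5 => ?_, e1⟩
    obtain ⟨v, -, e2⟩ := nr_cj' hn (show w ∈ Q E from w0)
    exact cj_comm inj e1 e2 ((comm_A hx).2 (.inr (((comm_A ha).1
      (cj_comm inj e.symm e2.symm ((comm_A hb).2 (.inr w5)))).resolve_left a1)))

variable (inj : Function.Injective φ) (hS : IsSylowIn 2 φ.range ⊤)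
include inj hS

theorem se1 {n : G} (hn : n ∈ nr φ (Q E)) {t : U12 E} (ht : t.p0 ≠ 0)
    (h : n * φ t * n⁻¹ ∈ nr φ (EA E)) : n ∈ nr φ (EA E) := by
  obtain ⟨l, hl, s, e⟩ := into_S (hS.mono (le_inf (S_le (Q E)) (S_le (EA E))) le_top) (x := n * φ t * n⁻¹)
    (mem_inf.2 ⟨mul_mem (mul_mem hn (S_nr _ t)) (inv_mem hn), h⟩) (k := 3)
    (by rw [conj_pow, ← map_pow, pow8, map_one, mul_one, mul_inv_cancel])
  rw [mem_inf] at hl
  refine (mul_mem_cancel_left hl.2).1 (ct inj (mul_mem hl.1 hn) ht (s := s) fun x _ => ?_).2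
  rw [show l * n * φ t * (l * n)⁻¹ = φ s by rw [← e]; group]
  exact Cj.self s x

theorem u1 {g : G} (hg : g ∈ nr φ (Q E)) {a x t : U12 E} (ha : a ∈ EA E) (e : Cj φ g a x)
    (ht : t.p0 ≠ 0) (h : ⁅t, x⁆ ∈ Z E) : x ∈ EA E := by
  by_cases a1 : a.p1 = 0
  · exact Z_le_A (e.mem inj (QZ inj hg) ⟨ha.1, ha.2.1, ha.2.2.1, ha.2.2.2, a1⟩)
  obtain ⟨z, hz, e1⟩ := nr_cj' (QZ inj hg) h
  have e2 : Cj φ (g⁻¹ * φ t * g⁻¹⁻¹) a (z * a) := by
    have := (e1.mul e).symm.trans (comm_c x t ▸ Cj.self t x : Cj φ (φ t) x (⁅t, x⁆ * x))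
    rw [inv_inv]
    exact this.trans e
  have k := se1 inj hS (inv_mem hg) ht (nrA_of inj (mul_mem (mul_mem (inv_mem hg) (S_nr _ t))
    (inv_mem (inv_mem hg))) ha a1 (mul_mem (Z_le_A hz) ha) e2)
  exact e.symm.mem' inj k ha

omit inj hS in
theorem pw_mem {P : Subgroup G} {a b : G} (ha : a ∈ 𝐍(P)) (h : a * b ∈ P) (m : ℕ) : a ^ m * b ^ m ∈ P := by
  induction m with
  | zero => simp
  | succ m ih =>
    rw [show a ^ (m + 1) * b ^ (m + 1) = a * (a ^ m * b ^ m) * a⁻¹ * (a * b) by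
      rw [pow_succ' a, pow_succ' b, ← pow_succ' b, pow_succ b]; group]
    exact mul_mem ((mem_normalizer_iff.1 ha _).1 ih) h

theorem od {g : G} (hg : g ∈ nr φ (Q E)) (hA : g ∉ nr φ (EA E)) {t s : U12 E} (ht : t.p0 ≠ 0)
    (hs : s.p0 ≠ 0) : ∃ m, Odd m ∧ (φ t * (g * φ s * g⁻¹)) ^ m ∈ (Q E).map φ := by
  have cq : ∀ n ∈ nr φ (Q E), ∀ x ∈ (Q E).map φ, n * x * n⁻¹ ∈ (Q E).map φ := fun n hn x hx =>
    (mem_normalizer_iff.1 hn x).1 hx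
  have n1 : g * φ s * g⁻¹ ∈ nr φ (Q E) := mul_mem (mul_mem hg (S_nr _ s)) (inv_mem hg)
  have q1 : φ t * φ t ∈ (Q E).map φ := ⟨t * t, (sq4 t).1, map_mul φ t t⟩
  have q2 : g * φ s * g⁻¹ * (g * φ s * g⁻¹) ∈ (Q E).map φ := by
    rw [conj_mul]; exact cq g hg _ ⟨s * s, (sq4 s).1, map_mul φ s s⟩
  generalize e1 : g * φ s * g⁻¹ = t1 at n1 q2
  have nw : φ t * t1 ∈ nr φ (Q E) := mul_mem (S_nr _ t) n1
  obtain ⟨k, m, hm, e⟩ := Nat.exists_eq_two_pow_mul_odd (orderOf_pos (φ t * t1)).ne'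
  refine ⟨m, hm, by_contra fun hy => hA ?_⟩
  obtain ⟨l, hl, r, er⟩ := into_S (hS.mono (S_le (Q E)) le_top) (pow_mem nw m) (k := k)
    (by rw [← pow_mul, mul_comm, ← e, pow_orderOf_eq_one])
  have r0 : r.p0 ≠ 0 := fun r0 => hy (by
    have := cq _ (inv_mem hl) _ ⟨r, r0, rfl⟩
    rwa [← er, show l⁻¹ * (l * (φ t * t1) ^ m * l⁻¹) * l⁻¹⁻¹ = (φ t * t1) ^ m by group] at this)
  have key : ∀ c ∈ nr φ (Q E), c * (φ t * t1) * c⁻¹ * (φ t * t1) ∈ (Q E).map φ →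
      l * c * l⁻¹ ∈ nr φ (EA E) := fun c hc h => by
    have := cq l hl _ (pw_mem (mul_mem (mul_mem hc nw) (inv_mem hc)) h m)
    refine se1 inj hS (mul_mem (mul_mem hl hc) (inv_mem hl)) r0 (S_le _ ?_)
    rw [show l * c * l⁻¹ * φ r * (l * c * l⁻¹)⁻¹ =
      l * ((c * (φ t * t1) * c⁻¹) ^ m * (φ t * t1) ^ m) * l⁻¹ * (φ r)⁻¹ by rw [← er, conj_pow]; group]
    exact mul_mem (map_le_range _ _ this) (inv_mem ⟨r, rfl⟩)
  have k1 := se1 inj hS hl ht (key _ (S_nr _ t) (by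
    rw [show φ t * (φ t * t1) * (φ t)⁻¹ * (φ t * t1) = φ t * φ t * (t1 * t1) by group]
    exact mul_mem q1 q2))
  have k2 := key _ (inv_mem n1) (by
    rw [show t1⁻¹ * (φ t * t1) * t1⁻¹⁻¹ * (φ t * t1) =
      t1⁻¹ * (φ t * (t1 * t1) * (φ t)⁻¹ * (φ t * φ t)) * t1⁻¹⁻¹ by group]
    exact cq _ (inv_mem n1) _ (mul_mem (cq _ (S_nr _ t) _ q2) q1))
  refine (mul_mem_cancel_left k1).1 (se1 inj hS (mul_mem hl hg) hs ?_)
  rw [show l * g * φ s * (l * g)⁻¹ = (l * t1⁻¹ * l⁻¹)⁻¹ by rw [← e1]; group]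
  exact inv_mem k2

end H75.SY
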