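import Mathlib
import Cfsg.Agent.Lib.Sy.MA
import Cfsg.Agent.Lib.SY6.SE

/-!
# Images of `A` inside `N₁` under the normalizer of `Q`, case `G₂(q)` (helper78)
-/

set_option autoImplicit false
set_option linter.unusedSectionVars false
set_option linter.unusedSimpArgs false
set_option linter.unnecessarySeqFocus false

namespace H75.SY

open H89.D4S H89.D4S.U12 H78.Ofs H78.Sy Subgroup
open H93.SX (Cj nr nr_cj nr_cj' self_nr)
open H69 (IsSylowIn)
open scoped commutatorElement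

variable {F E G : Type*} [Field F] [Field E] [Cub F E] [CharP F 2] [CharP E 2] [Finite F] [Finite E]
  [Group G] [Finite G] {φ : U12 E →* G}

/-- Coordinates on `Q/Z`. -/
structure KGc (a b : U12 E → F) (al be : E → F) (ea : U12 E) : Prop where
  bf : ∀ x y : U12 E, Bf x y = x.p5 * y.p1 + x.p1 * y.p5 + a x * b y + b x * a y
  sq : ∀ x : U12 E, T (x.p4 * x.p2) = a x * b x
  cj : ∀ s x : U12 E, x.p0 = 0 → a (s * x * s⁻¹) = a x + al s.p0 * x.p5 ∧
    b (s * x * s⁻¹) = b x + be s.p0 * x.p5 ∧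
    (s * x * s⁻¹).p1 = x.p1 + al s.p0 * b x + be s.p0 * a x + al s.p0 * be s.p0 * x.p5
  z : ∀ x : U12 E, x.p4 = 0 → x.p2 = 0 → a x = 0 ∧ b x = 0
  e : ea.p0 = 0 ∧ ea.p5 = 0 ∧ ea.p1 = 0 ∧ a ea = 1 ∧ b ea = 0
  al : Function.Surjective al
  be0 : be 0 = 0
  be1 : ∀ k, be k = be 1 → k = 1

/-- Conjugation by `h` shifts the slope by `β`. -/
def KGs (φ : U12 E →* G) (a b : U12 E → F) (β : F) (h : G) : Prop :=
  ∀ μ x, x.p0 = 0 → b x = μ * x.p5 → x.p1 = μ * a x →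
    ∃ y, y.p0 = 0 ∧ b y = (μ + β) * y.p5 ∧ y.p1 = (μ + β) * a y ∧ Cj φ h x y

theorem auto_lemmas_kg : True := by
  have := @KGs.eq_1.{0, 0, 0}
  trivial

variable {a b : U12 E → F} {al be : E → F} {ea : U12 E}

theorem KGs.mul {β γ : F} {h k : G} (p : KGs φ a b β h) (q : KGs φ a b γ k) : KGs φ a b (γ + β) (h * k) :=
  fun μ x x0 x1 x2 => by
    obtain ⟨y, y0, y1, y2, e⟩ := q μ x x0 x1 x2
    obtain ⟨z, z0, z1, z2, e'⟩ := p _ y y0 y1 y2
    exact ⟨z, z0, by rwa [← add_assoc], by rwa [← add_assoc], e'.trans e⟩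

theorem KGs.pow {β : F} {h : G} (p : KGs φ a b β h) (n : ℕ) : KGs φ a b (n * β) (h ^ n) := by
  induction n with
  | zero => exact fun μ x x0 x1 x2 => ⟨x, x0, by simpa using x1, by simpa using x2, by simpa using Cj.one⟩
  | succ n ih =>
    rw [pow_succ', Nat.cast_succ, add_one_mul]
    exact p.mul ih

theorem KGc.sh (c : KGc a b al be ea) (s : U12 E) : KGs φ a b (be s.p0) (φ s) := fun μ x x0 x1 x2 => by
  obtain ⟨e0, e5, -⟩ := UA.cj x0 s
  obtain ⟨ea, eb, e1⟩ := c.cj s x x0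
  refine ⟨_, e0, ?_, ?_, Cj.self s x⟩
  · rw [eb, e5, x1]; ring
  · rw [e1, ea, x1, x2]; ring

theorem kg_g3 {c d : F} (h : (g3 c : U12 E) = g3 d) : c = d := congrArg U12.p3 h

theorem kg_nr (s : U12 E) : φ s ∈ nr φ (Q E) := self_nr fun _ _ => (UA.c1 ..).1

theorem kg0 (hc : CG E) (inj : Function.Injective φ) (hS : IsSylowIn 2 φ.range ⊤) (c : KGc a b al be ea)
    {g : G} (hg : g ∈ nr φ (Q E)) {u v : U12 E} (hu : u ∈ EA E) (e : Cj φ g u v) (h5 : v.p5 = 0)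
    (h1 : v.p1 = 0) (ha : a v = 0) : b v = 0 := by
  by_contra hb
  have hA : ∀ {X : Subgroup (U12 E)}, X ≤ EA E → u ∈ X → g ∉ nr φ X := fun l m n =>
    let y := l (e.mem inj n m); hb (c.z v y.2.2.1 y.2.2.2).2
  have u1 : u.p1 ≠ 0 := fun h => hA (X := Z E) (fun _ y => ⟨y.1, y.2.1, y.2.2.1, y.2.2.2.1⟩)
    ⟨hu.1, hu.2.1, hu.2.2.1, hu.2.2.2, h⟩ (QZ inj hg)
  have v0 : v.p0 = 0 := e.mem inj hg (show u ∈ Q E from hu.1)
  set t := g * φ (g0 1) * g⁻¹ with ht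
  have hn : t ∈ nr φ (Q E) := mul_mem (mul_mem hg (kg_nr _)) (inv_mem hg)
  have cj : ∀ {x x0 y : U12 E}, Cj φ g x0 x → Cj φ t x y → Cj φ g (g0 1 * x0 * (g0 1)⁻¹) y := fun p q => by
    have := (q.trans p).trans (Cj.self (g0 1) _).symm
    rwa [ht, inv_mul_cancel_right, mul_inv_cancel_right] at this
  have fx : ∀ {x x0 y : U12 E}, Cj φ g x0 x → x0 ∈ EA E → Cj φ t x y → y = x := fun p m q => by
    have := cj p q
    rw [comm_c, ← commutatorElement_inv, UA.c4 m] at this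
    exact Cj.uniq inj (by simpa [g0, show (g3 0 : U12 E) = 1 from rfl] using this) p
  have fz : ∀ {d : F} {y : U12 E}, Cj φ t (g3 d) y → y = g3 d := fun q =>
    let ⟨_, m, p⟩ := nr_cj' (QZ inj hg) (ma_g3 _); fx p ⟨m.1, m.2.1, m.2.2.1, m.2.2.2.1⟩ q
  have m0 : ∀ {x y : U12 E}, x.p0 = 0 → Cj φ t x y → y.p0 = 0 := fun m p => p.mem inj hn (show _ ∈ Q E from m)
  have p2 : ∀ {x y x' y' : U12 E}, x.p0 = 0 → y.p0 = 0 → Cj φ t x x' → Cj φ t y y' → Bf x' y' = Bf x y :=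
    fun mx my p q => by
      have := p.comm q
      rw [cQ mx my, cQ (m0 mx p) (m0 my q)] at this
      exact kg_g3 (fz this)
  have p0 : ∀ {x x' : U12 E}, x.p0 = 0 → Cj φ t x x' → a x' = a x := fun mx p => by
    obtain ⟨v', -, q⟩ := nr_cj hn (show v ∈ Q E from v0)
    have := p2 mx v0 p q
    rw [fx e hu q, c.bf, c.bf, h5, h1, ha] at this
    simpa [hb] using this
  have k5 : ∀ {x x0 : U12 E}, x.p0 = 0 → a x = 0 → x0.p0 = 0 → Cj φ g x0 x → x0.p5 = 0 := fun mx ax m p => by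
    have := p.comm e
    rw [cQ m hu.1, cQ mx v0, c.bf _ v, h5, h1, ha, ax] at this
    have := kg_g3 (this.symm.uniq inj (y := g3 _) (z := g3 0) (by simp [Cj, show (g3 0 : U12 E) = 1 from rfl]))
    simpa [Bf, hu.2.1, hu.2.2.1, hu.2.2.2, u1] using this
  have p1 : ∀ {x y x' : U12 E}, x.p0 = 0 → y.p0 = 0 → a x = 0 → a y = 0 → Cj φ t x x' → Bf x' y = Bf x y :=
    fun {x y x'} mx my ax ay p => by
      obtain ⟨x0, m, q⟩ := nr_cj' hg (show x ∈ Q E from mx)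
      obtain ⟨y0, n, r⟩ := nr_cj' hg (show y ∈ Q E from my)
      have e1 := (cj q p).comm r
      have e2 := q.comm r
      obtain ⟨f0, f5, f4, f2, -⟩ := UA.cj m (g0 1)
      have := k5 mx ax m q
      rw [cQ f0 n, cQ (m0 mx p) my, Bf, f5, f4, f2, k5 my ay n r, this, hc.cr] at e1
      rw [cQ m n, cQ mx my, Bf, k5 my ay n r, this] at e2
      refine kg_g3 (Cj.uniq inj ?_ e2)
      simpa using e1
  obtain ⟨A, -, pA⟩ := nr_cj hn (show g5 1 ∈ Q E from rfl)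
  obtain ⟨B, -, pB⟩ := nr_cj hn (show g1 1 ∈ Q E from rfl)
  obtain ⟨e0, e5, e1, eA, eB⟩ := c.e
  obtain ⟨C, mC, pC⟩ := nr_cj hn (show ea ∈ Q E from e0)
  obtain ⟨a5, b5⟩ := c.z (g5 1) rfl rfl
  obtain ⟨a1, b1⟩ := c.z (g1 1) rfl rfl
  have A1 := p1 rfl rfl a5 a5 pA
  have A5 := p1 rfl rfl a5 a1 pA
  have B1 := p1 rfl rfl a1 a5 pB
  have B5 := p1 rfl rfl a1 a1 pB
  have Aa := (p0 rfl pA).trans a5
  have Ba := (p0 rfl pB).trans a1
  have Ca := (p0 e0 pC).trans eA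
  simp [Bf, g5, g1] at A1 A5 B1 B5
  have s1 : ∀ {x y : U12 E}, x.p0 = 0 → Cj φ t x y → y.p1 = x.p1 + b A * a x ∧ y.p5 = x.p5 + b B * a x :=
    fun mx p => by
      have i := p2 mx rfl p pA
      have j := p2 mx rfl p pB
      rw [c.bf, A1, A5, Aa, p0 mx p] at i
      rw [c.bf, B1, B5, Ba, p0 mx p] at j
      simp [Bf, g5, g1] at i j
      constructor <;> grind
  have Cb : b C = b B * b A := by
    have := pC.mul pC
    rw [sq_Q e0, sq_Q mC] at this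
    have := kg_g3 (fz this)
    rw [c.sq, c.sq, (s1 e0 pC).1, (s1 e0 pC).2, Ca, e5, e1, eA, eB] at this
    grind
  have st : KGs φ a b (b A) t := fun μ x x0 x1 x2 => by
    obtain ⟨y, my, p⟩ := nr_cj hn (show x ∈ Q E from x0)
    have i := p2 x0 e0 p pC
    obtain ⟨j, k⟩ := s1 x0 p
    have l := p0 x0 p
    rw [c.bf, c.bf, (s1 e0 pC).1, (s1 e0 pC).2, Ca, Cb, e5, e1, eA, eB] at i
    exact ⟨y, my, by grind, by grind, p⟩
  have fin : ∀ k : E, k ≠ 0 → be k = b A := fun k hk => by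
    obtain ⟨_, ⟨n, rfl⟩, q, mq, e⟩ := od inj hS hg (hA le_rfl hu) (t := g0 k) (s := g0 1) hk one_ne_zero
    obtain ⟨y, -, y1, -, p⟩ := ((c.sh (φ := φ) (g0 k)).mul st).pow (2 * n + 1) 0 (g5 1) rfl
      (by simp [b5]) (by simp [g5])
    rw [← ht] at e
    rw [← e] at p
    rw [p.uniq inj (Cj.self ..), (c.cj q _ rfl).2.1, (UA.cj rfl q).2.1, show q.p0 = 0 from mq, c.be0, b5] at y1
    simp [g5, g0, CharTwo.two_eq_zero] at y1
    exact (CharTwo.add_eq_zero.1 y1.symm).symm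
  obtain ⟨w, w0, w1⟩ : ∃ w : E, w ≠ 0 ∧ w ≠ 1 := by
    by_contra! h
    have := Nat.card_le_card_of_surjective (fun i : Bool => if i then (1 : E) else 0) fun w => by
      by_cases w0 : w = 0
      · exact ⟨false, w0.symm⟩
      · exact ⟨true, (h w w0).symm⟩
    have := hc.2
    rw [← hc.card] at this
    simp at *
    omega
  exact w1 (c.be1 w ((fin w w0).trans (fin 1 one_ne_zero).symm))

theorem kg1 (hc : CG E) (inj : Function.Injective φ) (hS : IsSylowIn 2 φ.range ⊤) (c : KGc a b al be ea)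
    {g : G} (hg : g ∈ nr φ (Q E)) {u v : U12 E} (hu : u ∈ EA E) (e : Cj φ g u v) (h5 : v.p5 = 0)
    (ha : a v = 0) : b v = 0 := by
  by_contra hb
  have v0 : v.p0 = 0 := e.mem inj hg (show u ∈ Q E from hu.1)
  obtain ⟨k, hk⟩ := c.al (v.p1 / b v)
  obtain ⟨ea, eb, e1⟩ := c.cj (g0 k) v v0
  have := kg0 hc inj hS c (mul_mem (kg_nr (g0 k)) hg) hu ((Cj.self ..).trans e) ((UA.cj v0 _).2.1.trans h5)
    (by rw [e1, h5, ha, show (g0 k : U12 E).p0 = k from rfl, hk, div_mul_cancel₀ _ hb]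
        simp [CharTwo.add_self_eq_zero]) (by simp [ea, h5, ha])
  exact hb (by simpa [eb, h5] using this)

theorem kg (hc : CG E) (inj : Function.Injective φ) (hS : IsSylowIn 2 φ.range ⊤) {g : G}
    (hg : g ∈ nr φ (Q E)) {u v : U12 E} (hu : u ∈ EA E) (e : Cj φ g u v) (h5 : v.p5 = 0) : v ∈ EA E := by
  have iT : ∀ x : E, ι (T x) = x := fun x => by obtain ⟨a, rfl⟩ := hc.1 x; rw [T_ι]
  have tm : ∀ x y : E, T (x * y) = T x * T y := fun x y => by obtain ⟨a, rfl⟩ := hc.1 x; simp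
  have ts : ∀ x : E, T (sh x) = T x ^ 2 := fun x => by obtain ⟨a, rfl⟩ := hc.1 x; rw [sh_ι, T_ι, T_ι]
  have tn : ∀ x : E, N x = T x ^ 3 := fun x => by obtain ⟨a, rfl⟩ := hc.1 x; simp
  have t0 : ∀ {x : E}, T x = 0 → x = 0 := fun {x} h => by rw [← iT x, h, map_zero]
  have t1 : ∀ {x : E}, T x = 1 → x = 1 := fun {x} h => by rw [← iT x, h, map_one]
  have v0 : v.p0 = 0 := e.mem inj hg (show u ∈ Q E from hu.1)
  have vv := e.mul e
  rw [sq_B (ma_AB hu), sq_Q v0, h5, tm] at vv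
  have vv := kg_g3 (vv.uniq inj (z := g3 0) (by simp [Cj, show (g3 0 : U12 E) = 1 from rfl]))
  rw [zero_mul, zero_add] at vv
  have cj : ∀ s x : U12 E, x.p0 = 0 → T (s * x * s⁻¹).p4 = T x.p4 + T s.p0 * x.p5 ∧
      T (s * x * s⁻¹).p2 = T x.p2 + T s.p0 ^ 2 * x.p5 ∧
      (s * x * s⁻¹).p1 = x.p1 + T s.p0 * T x.p2 + T s.p0 ^ 2 * T x.p4 + T s.p0 * T s.p0 ^ 2 * x.p5 :=
    fun s x h => by
      obtain ⟨-, -, e4, e2, e1⟩ := UA.cj h s
      rw [e4, e2, e1, hc.cr]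
      simp only [map_add, tm, ts, tn, T_ι, map_zero]
      refine ⟨?_, ?_, ?_⟩ <;> ring
  rcases mul_eq_zero.1 vv with h | h
  · exact ⟨v0, h5, t0 h, t0 (kg1 (a := fun x => T x.p4) (b := fun x => T x.p2) (al := fun k => T k)
      (be := fun k => T k ^ 2) (ea := g4 1) hc inj hS ⟨fun x y => by simp only [Bf, tm], fun x => tm _ _, cj,
        fun x a b => by simp [a, b], by simp [g4], fun a => ⟨ι a, T_ι a⟩, by simp,
        fun k h => t1 (by grind [T_one])⟩ hg hu e h5 h)⟩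
  · exact ⟨v0, h5, t0 (kg1 (a := fun x => T x.p2) (b := fun x => T x.p4) (al := fun k => T k ^ 2)
      (be := fun k => T k) (ea := g2 1) hc inj hS ⟨fun x y => by simp only [Bf, tm]; ring,
        fun x => (tm _ _).trans (mul_comm _ _),
        fun s x h => let ⟨a, b, c⟩ := cj s x h; ⟨b, a, by rw [c]; ring⟩,
        fun x a b => by simp [a, b], by simp [g2], fun a => by
          obtain ⟨r, rfl⟩ := FiniteField.isSquare_of_char_two (ringChar.eq F 2) a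
          exact ⟨ι r, by simp [sq]⟩, by simp, fun k h => t1 (h.trans T_one)⟩ hg hu e h5 h), t0 h⟩

end H75.SY
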